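import Groth.Agent.ResProp.EF.Grp
import Groth.Agent.S3032
import Groth.Agent.Hoch.K915.Basic
import Groth.Agent.Hoch.K915.DSq
import Mathlib

/-!
# G2a: 1.1 and 1.2 over a principal ideal domain (`Grp.SerreCover`, `Grp.LiftClass2`)

`V` a comodule, `π : F → V` onto with `F` free, `N = {x ∈ F ⊗ A : (π ⊗ 1) x ∈ ρ(V)}` a subcomodule of the induced
comodule `F ⊗ A`, `p : N → V` onto.  Finitely generated subcomodules of `N` are free.  A 2-cocycle `c` of `V`
lifts to `ct ∈ (F ⊗ A) ⊗ A = C¹(F ⊗ A)`, and `d ct` is a 2-cocycle of `N` with image `c` (exactly).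
-/

set_option autoImplicit false

noncomputable section

open TensorProduct HopfRep

namespace Groth.Agent.ResProp.EF.K413

universe u

section Sub

variable {k : Type u} [CommRing k] {A : Type u} [AddCommGroup A] [Module k A] [Coalgebra k A]
  [Module.Flat k A]
variable {V : Type u} [AddCommGroup V] [Module k V] [Comod k A V]

/-- A coaction-like map compatible with a comodule structure along an injection. -/
@[reducible] def comodOfInj {W : Type u} [AddCommGroup W] [Module k W]
    (i : W →ₗ[k] V) (hi : Function.Injective i) (c : W →ₗ[k] W ⊗[k] A)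
    (hc : (i.rTensor A) ∘ₗ c = Comod.coact (k := k) (A := A) ∘ₗ i) : Comod k A W where
  coact := c
  coassoc := by
    have hinj : Function.Injective (i.rTensor (A ⊗[k] A)) :=
      Module.Flat.rTensor_preserves_injective_linearMap i hi
    apply LinearMap.ext
    intro w
    apply hinj
    have hc' : ∀ x, (i.rTensor A) (c x) = Comod.coact (k := k) (A := A) (i x) :=
      fun x => LinearMap.congr_fun hc x
    have h1 : ∀ z : W ⊗[k] A, (i.rTensor (A ⊗[k] A)) (TensorProduct.assoc k W A A
          (c.rTensor A z)) =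
        TensorProduct.assoc k V A A
          ((Comod.coact (k := k) (A := A) (V := V)).rTensor A (i.rTensor A z)) := by
      intro z
      have hz : (i.rTensor A).rTensor A (c.rTensor A z) =
          (Comod.coact (k := k) (A := A) (V := V)).rTensor A (i.rTensor A z) := by
        rw [← LinearMap.rTensor_comp_apply, hc, LinearMap.rTensor_comp_apply]
      rw [← hz]
      generalize (c.rTensor A z) = y
      rw [LinearMap.rTensor_tensor]
      simp
    have h2 : ∀ z : W ⊗[k] A, (i.rTensor (A ⊗[k] A))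
        ((CoalgebraStruct.comul (R := k) (A := A)).lTensor W z) =
        (CoalgebraStruct.comul (R := k) (A := A)).lTensor V (i.rTensor A z) := by
      intro z
      rw [← LinearMap.comp_apply, ← LinearMap.comp_apply, LinearMap.rTensor_comp_lTensor,
        LinearMap.lTensor_comp_rTensor]
    simp only [LinearMap.comp_apply, LinearEquiv.coe_toLinearMap]
    rw [h1, h2, hc']
    exact LinearMap.congr_fun (Comod.coassoc (k := k) (A := A) (V := V)) (i w)
  counit_comp := by
    have hinj : Function.Injective (i.rTensor k) :=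
      Module.Flat.rTensor_preserves_injective_linearMap i hi
    apply LinearMap.ext
    intro w
    apply hinj
    have hc' : ∀ x, (i.rTensor A) (c x) = Comod.coact (k := k) (A := A) (i x) :=
      fun x => LinearMap.congr_fun hc x
    have h2 : ∀ z : W ⊗[k] A, (i.rTensor k)
        ((CoalgebraStruct.counit (R := k) (A := A)).lTensor W z) =
        (CoalgebraStruct.counit (R := k) (A := A)).lTensor V (i.rTensor A z) := by
      intro z
      rw [← LinearMap.comp_apply, ← LinearMap.comp_apply, LinearMap.rTensor_comp_lTensor,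
        LinearMap.lTensor_comp_rTensor]
    simp only [LinearMap.comp_apply]
    rw [h2, hc']
    have := LinearMap.congr_fun (Comod.counit_comp (k := k) (A := A) (V := V)) (i w)
    simp only [LinearMap.comp_apply] at this
    rw [this]
    simp

/-- The coaction on a subcomodule. -/
def subCoact (W : Submodule k V) (hW : IsSubcomod (k := k) (A := A) W) :
    W →ₗ[k] W ⊗[k] A :=
  (LinearEquiv.ofInjective (W.subtype.rTensor A)
    (Module.Flat.rTensor_preserves_injective_linearMap _ W.injective_subtype)).symm.toLinearMap ∘ₗ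
    LinearMap.codRestrict (LinearMap.range (W.subtype.rTensor A))
      (Comod.coact (k := k) (A := A) ∘ₗ W.subtype) (fun w => hW w w.2)

theorem subCoact_spec (W : Submodule k V) (hW : IsSubcomod (k := k) (A := A) W) :
    (W.subtype.rTensor A) ∘ₗ subCoact W hW = Comod.coact (k := k) (A := A) ∘ₗ W.subtype := by
  apply LinearMap.ext
  intro w
  have := LinearEquiv.ofInjective_symm_apply (f := W.subtype.rTensor A)
    (h := Module.Flat.rTensor_preserves_injective_linearMap _ W.injective_subtype)
    (LinearMap.codRestrict (LinearMap.range (W.subtype.rTensor A))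
      (Comod.coact (k := k) (A := A) ∘ₗ W.subtype) (fun w => hW w w.2) w)
  exact this

/-- The comodule structure on a subcomodule. -/
@[reducible] def sub (W : Submodule k V) (hW : IsSubcomod (k := k) (A := A) W) :
    Comod k A W :=
  comodOfInj W.subtype W.injective_subtype (subCoact W hW) (subCoact_spec W hW)

theorem sub_hom (W : Submodule k V) (hW : IsSubcomod (k := k) (A := A) W) :
    letI := sub W hW
    Hoch.IsComodHom A W.subtype :=
  (subCoact_spec W hW).symm

end Sub

section Cover

variable {k : Type u} [CommRing k] {A : Type u} [CommRing A] [Bialgebra k A]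
variable {V : Type u} [AddCommGroup V] [Module k V] [Comod k A V]
variable {F : Type u} [AddCommGroup F] [Module k F] (π : F →ₗ[k] V)

theorem coactAux_nat {V' : Type u} [AddCommGroup V'] [Module k V'] (f : F →ₗ[k] V')
    (x : F ⊗[k] A) :
    Hoch.Ind.coactAux k A V' (f.rTensor A x) =
      (f.rTensor A).rTensor A (Hoch.Ind.coactAux k A F x) := by
  induction x with
  | zero => simp
  | add x y hx hy => simp only [map_add, hx, hy]
  | tmul m a =>
    rw [LinearMap.rTensor_tmul, Hoch.Ind.coactAux_tmul, Hoch.Ind.coactAux_tmul]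
    generalize Coalgebra.comul (R := k) a = w
    induction w using TensorProduct.induction_on with
    | zero => simp
    | add z₁ z₂ h₁ h₂ => simp only [map_add, TensorProduct.tmul_add, h₁, h₂]
    | tmul a b => simp

theorem coactAux_coact (v : V) :
    Hoch.Ind.coactAux k A V (Comod.coact (k := k) (A := A) v) =
      (Comod.coact (k := k) (A := A) (V := V)).rTensor A (Comod.coact (k := k) (A := A) v) := by
  have h := LinearMap.congr_fun (Comod.coassoc (k := k) (A := A) (V := V)) v
  simp only [LinearMap.comp_apply, LinearEquiv.coe_coe] at h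
  rw [Hoch.Ind.coactAux, LinearMap.comp_apply, ← h]
  simp

/-- `1 ⊗ ε : V ⊗ A → V`. -/
def cou (k A V : Type u) [CommRing k] [CommRing A] [Bialgebra k A] [AddCommGroup V] [Module k V] :
    V ⊗[k] A →ₗ[k] V :=
  (TensorProduct.rid k V).toLinearMap ∘ₗ (Coalgebra.counit (R := k) (A := A)).lTensor V

theorem cou_coact (v : V) : cou k A V (Comod.coact (k := k) (A := A) v) = v := by
  have h := LinearMap.congr_fun (Comod.counit_comp (k := k) (A := A) (V := V)) v
  simp only [LinearMap.comp_apply] at h
  simp only [cou, LinearMap.comp_apply]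
  rw [h]
  simp

theorem coact_injective : Function.Injective (Comod.coact (k := k) (A := A) (V := V)) :=
  Function.LeftInverse.injective (g := cou k A V) cou_coact

omit [Comod k A V] in
theorem cou_coactAux (x : V ⊗[k] A) :
    (cou k A V).rTensor A (Hoch.Ind.coactAux k A V x) = x := by
  induction x with
  | zero => simp
  | add x y hx hy => simp only [map_add, hx, hy]
  | tmul m a =>
    have h := Coalgebra.rTensor_counit_comul (R := k) a
    rw [Hoch.Ind.coactAux_tmul]
    have h2 : ∀ w : A ⊗[k] A, (cou k A V).rTensor A ((TensorProduct.assoc k V A A).symm (m ⊗ₜ w)) =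
        m ⊗ₜ[k] (TensorProduct.lid k A ((Coalgebra.counit (R := k) (A := A)).rTensor A w)) := by
      intro w
      induction w using TensorProduct.induction_on with
      | zero => simp
      | add z₁ z₂ h₁ h₂ => simp only [map_add, TensorProduct.tmul_add, h₁, h₂]
      | tmul a b => simp [cou, TensorProduct.smul_tmul]
    rw [h2, h]
    simp

/-- the map whose kernel is `N` -/
def qq : F ⊗[k] A →ₗ[k] (V ⊗[k] A) ⧸ LinearMap.range (Comod.coact (k := k) (A := A) (V := V)) :=
  (LinearMap.range (Comod.coact (k := k) (A := A) (V := V))).mkQ ∘ₗ π.rTensor A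

variable (k A F) in
/-- The induced comodule structure, on the plain tensor product. -/
@[reducible] def indC : Comod k A (F ⊗[k] A) where
  coact := Hoch.Ind.coactAux k A F
  coassoc := (Hoch.Ind.comod k A F).coassoc
  counit_comp := (Hoch.Ind.comod k A F).counit_comp

variable (A) in
/-- `N`, a submodule of the induced comodule of `F` -/
def NN : Submodule k (F ⊗[k] A) := LinearMap.ker (qq (A := A) π)

theorem mem_NN (x : F ⊗[k] A) : x ∈ NN A π ↔
    ∃ v : V, Comod.coact (k := k) (A := A) v = π.rTensor A x := by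
  unfold NN
  rw [LinearMap.mem_ker]
  simp only [qq, LinearMap.comp_apply]
  rw [Submodule.mkQ_apply, Submodule.Quotient.mk_eq_zero, LinearMap.mem_range]

theorem exact_NN : Function.Exact (NN A π).subtype (qq (A := A) π) :=
  LinearMap.exact_subtype_ker_map _

variable [Module.Flat k A]

theorem mem_range1 (y : (F ⊗[k] A) ⊗[k] A) (h : (qq (A := A) π).rTensor A y = 0) :
    y ∈ LinearMap.range ((NN A π).subtype.rTensor A) :=
  ((Module.Flat.rTensor_exact A (exact_NN (A := A) π)) y).1 h

theorem mem_range2 (y : ((F ⊗[k] A) ⊗[k] A) ⊗[k] A)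
    (h : ((qq (A := A) π).rTensor A).rTensor A y = 0) :
    y ∈ LinearMap.range (((NN A π).subtype.rTensor A).rTensor A) :=
  ((Module.Flat.rTensor_exact A (Module.Flat.rTensor_exact A (exact_NN (A := A) π))) y).1 h

omit [Module.Flat k A] in
theorem mkQ_coact :
    (LinearMap.range (Comod.coact (k := k) (A := A) (V := V))).mkQ ∘ₗ
      Comod.coact (k := k) (A := A) (V := V) = 0 := by
  ext v
  simp

theorem isSub_NN : @IsSubcomod k A _ _ _ _ (F ⊗[k] A) _ _ (indC k A F) (NN A π) := by
  intro x hx
  obtain ⟨v, hv⟩ := (mem_NN π x).1 hx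
  change Hoch.Ind.coactAux k A F x ∈ _
  apply mem_range1
  rw [qq, LinearMap.rTensor_comp_apply, ← coactAux_nat, ← hv, coactAux_coact,
    ← LinearMap.rTensor_comp_apply, mkQ_coact]
  simp

variable (A) in
/-- The comodule structure of `N`. -/
@[reducible] def coNN : Comod k A (NN A π) := @sub k _ A _ _ _ _ (F ⊗[k] A) _ _ (indC k A F) (NN A π)
  (isSub_NN π)

theorem coNN_spec (x : NN A π) :
    (NN A π).subtype.rTensor A ((coNN A π).coact x) = Hoch.Ind.coactAux k A F x :=
  LinearMap.congr_fun (@subCoact_spec k _ A _ _ _ _ (F ⊗[k] A) _ _ (indC k A F) (NN A π)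
    (isSub_NN π)) x

variable (A) in
/-- `p : N → V`. -/
def pp : NN A π →ₗ[k] V := cou k A V ∘ₗ π.rTensor A ∘ₗ (NN A π).subtype

omit [Module.Flat k A] in
theorem coact_pp (x : NN A π) :
    Comod.coact (k := k) (A := A) (pp A π x) = π.rTensor A (x : F ⊗[k] A) := by
  obtain ⟨v, hv⟩ := (mem_NN π _).1 x.2
  simp only [pp, LinearMap.comp_apply, Submodule.subtype_apply]
  rw [← hv, cou_coact]

omit [Module.Flat k A] in
theorem coact_comp_pp :
    Comod.coact (k := k) (A := A) (V := V) ∘ₗ pp A π = π.rTensor A ∘ₗ (NN A π).subtype :=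
  LinearMap.ext fun x => coact_pp π x

theorem pp_hom : @Hoch.IsComodHom k _ A _ _ _ (NN A π) _ _ (coNN A π) V _ _ _ (pp A π) := by
  apply LinearMap.ext
  intro x
  simp only [LinearMap.comp_apply]
  rw [coact_pp]
  rw [pp, LinearMap.rTensor_comp_apply, LinearMap.rTensor_comp_apply, coNN_spec, ← coactAux_nat,
    cou_coactAux]

omit [Module.Flat k A] in
theorem pp_surjective (hπ : Function.Surjective π) : Function.Surjective (pp A π) := by
  intro v
  obtain ⟨x, hx⟩ := LinearMap.rTensor_surjective A hπ (Comod.coact (k := k) (A := A) v)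
  refine ⟨⟨x, (mem_NN π x).2 ⟨v, hx.symm⟩⟩, ?_⟩
  apply coact_injective (k := k) (A := A)
  rw [coact_pp]
  exact hx

end Cover

section Cochain

variable {k : Type u} [CommRing k] {A : Type u} [CommRing A] [Bialgebra k A]
variable {V : Type u} [AddCommGroup V] [Module k V]

/-- `d` on `C^n` for a coaction given explicitly -/
abbrev dC (ρ : Comod k A V) (n : ℕ) : (Hoch.cochain k A V n : Type u) →ₗ[k]
    (Hoch.cochain k A V (n + 1) : Type u) := @Hoch.d k _ A _ _ V _ _ ρ n

variable (k A V) in
theorem tail_eq : ((TensorProduct.mk k V A).flip 1).rTensor A + Hoch.tail k A V =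
    Hoch.Ind.coactAux k A V - (TensorProduct.mk k (V ⊗[k] A) A).flip 1 := by
  refine TensorProduct.ext' fun v a => ?_
  simp [Hoch.tail_tmul, TensorProduct.tmul_sub, Hoch.Ind.coactAux]

theorem dI0 (x : V ⊗[k] A) : dC (indC k A V) 0 x =
    ((TensorProduct.mk k V A).flip 1).rTensor A x + Hoch.tail k A V x :=
  LinearMap.congr_fun (tail_eq k A V).symm x

theorem d1_eq (ρ : Comod k A V) (x : V ⊗[k] A) :
    dC ρ 1 x = ρ.coact.rTensor A x - dC (indC k A V) 0 x := by
  rw [dI0]
  change (ρ.coact - (TensorProduct.mk k V A).flip 1).rTensor A x +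
      ((-1 : k) ^ (0 + 1)) • Hoch.tail k A V x = _
  have e1 : ((-1 : k) ^ (0 + 1)) • Hoch.tail k A V x = - Hoch.tail k A V x := by
    rw [zero_add, pow_one]
    exact neg_one_smul k (Hoch.tail k A V x)
  rw [e1, LinearMap.rTensor_sub, LinearMap.sub_apply]
  abel

theorem d1_eq' (ρ : Comod k A V) :
    dC ρ 1 + dC (indC k A V) 0 = ρ.coact.rTensor A := by
  apply LinearMap.ext
  intro x
  change dC ρ 1 x + dC (indC k A V) 0 x = _
  rw [d1_eq]
  abel

/-- decalage: `d² = ρ ⊗ 1 ⊗ 1 - d¹` of the induced comodule. -/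
theorem d2_eq (ρ : Comod k A V) (c : (V ⊗[k] A) ⊗[k] A) :
    dC ρ 2 c = (ρ.coact.rTensor A).rTensor A c - dC (indC k A V) 1 c := by
  change (dC ρ 1).rTensor A c + ((-1 : k) ^ (1 + 1)) • Hoch.tail k A (V ⊗[k] A) c =
    (ρ.coact.rTensor A).rTensor A c - ((dC (indC k A V) 0).rTensor A c +
      ((-1 : k) ^ (0 + 1)) • Hoch.tail k A (V ⊗[k] A) c)
  have h := LinearMap.congr_fun (congrArg (LinearMap.rTensor A) (d1_eq' ρ)) c
  rw [LinearMap.rTensor_add, LinearMap.add_apply] at h
  have e1 : ((-1 : k) ^ (0 + 1)) • Hoch.tail k A (V ⊗[k] A) c = - Hoch.tail k A (V ⊗[k] A) c := by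
    rw [zero_add, pow_one]
    exact neg_one_smul k (Hoch.tail k A (V ⊗[k] A) c)
  have e2 : ((-1 : k) ^ (1 + 1)) • Hoch.tail k A (V ⊗[k] A) c = Hoch.tail k A (V ⊗[k] A) c := by
    rw [pow_succ, pow_one, neg_mul_neg, one_mul]
    exact one_smul k (Hoch.tail k A (V ⊗[k] A) c)
  rw [e1, e2, ← h]
  abel

variable {W : Type u} [AddCommGroup W] [Module k W]

/-- the map on cochains induced by a linear map -/
def cm (f : V →ₗ[k] W) : (n : ℕ) → ((Hoch.cochain k A V n : Type u) →ₗ[k]
    (Hoch.cochain k A W n : Type u))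
  | 0 => f
  | n + 1 => (cm f n).rTensor A

/-- naturality of `d` in every degree -/
theorem d_nat (ρ : Comod k A V) (σ : Comod k A W)
    (f : V →ₗ[k] W) (hf : @Hoch.IsComodHom k _ A _ _ _ V _ _ ρ W _ _ σ f) (n : ℕ) :
    dC σ n ∘ₗ cm f n = cm f (n + 1) ∘ₗ dC ρ n := by
  induction n with
  | zero =>
    change (σ.coact - (TensorProduct.mk k W A).flip 1) ∘ₗ f =
      f.rTensor A ∘ₗ (ρ.coact - (TensorProduct.mk k V A).flip 1)
    rw [LinearMap.sub_comp, LinearMap.comp_sub]
    have h1 : σ.coact ∘ₗ f = f.rTensor A ∘ₗ ρ.coact := hf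
    rw [h1]
    congr 1
  | succ n ih => exact K915.HochBasic.map_step k A (cm f n) (dC ρ n) (dC σ n) _ ih

theorem cm_injective [Module.Flat k A] (f : V →ₗ[k] W) (hf : Function.Injective f) (n : ℕ) :
    Function.Injective (cm (A := A) f n) := by
  induction n with
  | zero => exact hf
  | succ n ih => exact Module.Flat.rTensor_preserves_injective_linearMap _ ih

variable {F : Type u} [AddCommGroup F] [Module k F]

theorem ind_hom (f : F →ₗ[k] V) :
    @Hoch.IsComodHom k _ A _ _ _ (F ⊗[k] A) _ _ (indC k A F) (V ⊗[k] A) _ _ (indC k A V)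
      (f.rTensor A) :=
  LinearMap.ext fun x => coactAux_nat f x

theorem NN_hom [Module.Flat k A] [Comod k A V] (π : F →ₗ[k] V) :
    @Hoch.IsComodHom k _ A _ _ _ (NN A π) _ _ (coNN A π) (F ⊗[k] A) _ _ (indC k A F)
      (NN A π).subtype :=
  LinearMap.ext fun x => (coNN_spec π x).symm

/-- 1.2, first half: every 2-cocycle of `V` is the image of a 2-cocycle of `N`. -/
theorem exists_NN [Module.Flat k A] [ρ : Comod k A V] (π : F →ₗ[k] V)
    (hπ : Function.Surjective π) (c : (V ⊗[k] A) ⊗[k] A) (hc : dC ρ 2 c = 0) :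
    ∃ κ : ((NN A π) ⊗[k] A) ⊗[k] A, dC (coNN A π) 2 κ = 0 ∧ cm (A := A) (pp A π) 2 κ = c := by
  obtain ⟨ct, hct⟩ := LinearMap.rTensor_surjective A (LinearMap.rTensor_surjective A hπ) c
  have hdI : dC (indC k A V) 1 c = (ρ.coact.rTensor A).rTensor A c := by
    have h := d2_eq ρ c
    rw [hc] at h
    exact (sub_eq_zero.1 h.symm).symm
  have hnat : ((π.rTensor A).rTensor A).rTensor A (dC (indC k A F) 1 ct) =
      (ρ.coact.rTensor A).rTensor A c := by
    have h := LinearMap.congr_fun (d_nat (indC k A F) (indC k A V) (π.rTensor A) (ind_hom π) 1) ct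
    rw [← hdI]
    refine Eq.trans h.symm ?_
    change dC (indC k A V) 1 ((π.rTensor A).rTensor A ct) = _
    rw [hct]
  have hq : ((qq (A := A) π).rTensor A).rTensor A (dC (indC k A F) 1 ct) = 0 := by
    rw [qq, LinearMap.rTensor_comp, LinearMap.rTensor_comp_apply, hnat,
      ← LinearMap.rTensor_comp_apply, ← LinearMap.rTensor_comp, mkQ_coact]
    simp
  obtain ⟨κ, hκ⟩ := mem_range2 π _ hq
  refine ⟨κ, ?_, ?_⟩
  · apply cm_injective (A := A) (NN A π).subtype (NN A π).injective_subtype 3
    have h := LinearMap.congr_fun (d_nat (coNN A π) (indC k A F) (NN A π).subtype (NN_hom π) 2) κ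
    rw [map_zero]
    refine Eq.trans h.symm ?_
    change dC (indC k A F) 2 ((((NN A π).subtype.rTensor A).rTensor A) κ) = 0
    rw [hκ]
    exact @K915.HochDSq.dd_apply k _ A _ _ (F ⊗[k] A) _ _ (indC k A F) 1 ct
  · have hinj : Function.Injective ((ρ.coact.rTensor A).rTensor A) :=
      Module.Flat.rTensor_preserves_injective_linearMap _
        (Module.Flat.rTensor_preserves_injective_linearMap _ coact_injective)
    apply hinj
    change (ρ.coact.rTensor A).rTensor A (((pp A π).rTensor A).rTensor A κ) = _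
    rw [← LinearMap.rTensor_comp_apply, ← LinearMap.rTensor_comp, coact_comp_pp,
      LinearMap.rTensor_comp, LinearMap.rTensor_comp_apply, hκ, hnat]

end Cochain

section Free

variable {k : Type u} [CommRing k] [IsDomain k] [IsPrincipalIdealRing k]

theorem free_of_emb {X Y : Type u} [AddCommGroup X] [Module k X] [AddCommGroup Y] [Module k Y]
    [Module.IsTorsionFree k Y] [Module.Finite k X] (f : X →ₗ[k] Y) (hf : Function.Injective f) :
    Module.Free k X := by
  have e3 : Module.IsTorsionFree k X := hf.moduleIsTorsionFree _ (fun r x => map_smul f r x)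
  exact Module.free_of_finite_type_torsion_free'

end Free

section Abs

variable {k : Type u} [CommRing k] {A : Type u} [CommRing A] [Bialgebra k A] [Module.Free k A]
variable {V : Type u} [AddCommGroup V] [Module k V] [Comod k A V]
variable {F : Type u} [AddCommGroup F] [Module k F] (π : F →ₗ[k] V)

/-- comodule structure on `W ≤ N` -/
@[reducible] def coW (W : Submodule k (NN A π))
    (hW : @IsSubcomod k A _ _ _ _ (NN A π) _ _ (coNN A π) W) : Comod k A W :=
  @sub k _ A _ _ _ _ (NN A π) _ _ (coNN A π) W hW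

theorem coW_sub (W : Submodule k (NN A π))
    (hW : @IsSubcomod k A _ _ _ _ (NN A π) _ _ (coNN A π) W) :
    @Hoch.IsComodHom k _ A _ _ _ W _ _ (coW π W hW) (NN A π) _ _ (coNN A π) W.subtype :=
  @sub_hom k _ A _ _ _ _ (NN A π) _ _ (coNN A π) W hW

theorem coW_hom (W : Submodule k (NN A π))
    (hW : @IsSubcomod k A _ _ _ _ (NN A π) _ _ (coNN A π) W) :
    @Hoch.IsComodHom k _ A _ _ _ W _ _ (coW π W hW) V _ _ _ (pp A π ∘ₗ W.subtype) := by
  have h1 := coW_sub π W hW
  have h2 := pp_hom (A := A) π
  unfold Hoch.IsComodHom at h1 h2 ⊢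
  rw [← LinearMap.comp_assoc, h2, LinearMap.comp_assoc, h1, LinearMap.rTensor_comp,
    LinearMap.comp_assoc]

variable [IsDomain k] [IsPrincipalIdealRing k] [Module.Free k F]

/-- Finitely generated subcomodules of `N`. -/
theorem exists_W (S : Submodule k (NN A π)) (hS : S.FG) :
    ∃ W : Submodule k (NN A π),
      ∃ _ : @IsSubcomod k A _ _ _ _ (NN A π) _ _ (coNN A π) W,
      S ≤ W ∧ W.FG ∧ Module.Free k W := by
  let _ := coNN A π
  obtain ⟨W, h1, h2, h3⟩ := Groth.Agent.S3032.result k A (NN A π) S hS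
  refine ⟨W, h1, h2, h3, ?_⟩
  have e1 : Module.Finite k W := Module.Finite.iff_fg.2 h3
  exact free_of_emb (X := W) (Y := F ⊗[k] A) ((NN A π).subtype ∘ₗ W.subtype)
    (fun a b h => Subtype.ext (Subtype.ext h))

include π in
/-- 1.1 (Serre). -/
theorem cover_abs (hπ : Function.Surjective π) [Module.Finite k V] :
    ∃ (W : Type u) (_ : AddCommGroup W) (_ : Module k W) (_ : Comod k A W) (_ : Module.Free k W)
      (_ : Module.Finite k W) (f : W →ₗ[k] V), Hoch.IsComodHom A f ∧ Function.Surjective f := by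
  obtain ⟨s, hs⟩ := (inferInstance : Module.Finite k V).fg_top
  choose g hg using fun v : V => pp_surjective (A := A) π hπ v
  let S : Submodule k (NN A π) := Submodule.span k (g '' (s : Set V))
  have hS : S.FG := Submodule.fg_def.2 ⟨g '' (s : Set V), s.finite_toSet.image g, rfl⟩
  have h0 := exists_W (A := A) π S hS
  obtain ⟨W, h1, h2, h3, h4⟩ := h0
  refine ⟨W, inferInstance, inferInstance, coW π W h1, h4, Module.Finite.iff_fg.2 h3,
    pp A π ∘ₗ W.subtype, coW_hom π W h1, ?_⟩
  rw [← LinearMap.range_eq_top, eq_top_iff, ← hs, Submodule.span_le]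
  intro v hv
  exact ⟨⟨g v, h2 (Submodule.subset_span ⟨v, hv, rfl⟩)⟩, hg v⟩

include π in
/-- 1.2, exactly (no coboundary). -/
theorem lift_abs (hπ : Function.Surjective π) (c : (V ⊗[k] A) ⊗[k] A)
    (hc : Hoch.d k A V 2 c = 0) :
    ∃ (W : Type u) (_ : AddCommGroup W) (_ : Module k W) (_ : Comod k A W) (_ : Module.Free k W)
      (_ : Module.Finite k W) (f : W →ₗ[k] V) (_ : Hoch.IsComodHom A f)
      (κ : (W ⊗[k] A) ⊗[k] A), Hoch.d k A W 2 κ = 0 ∧ (f.rTensor A).rTensor A κ = c := by
  obtain ⟨κ0, h1, h2⟩ := exists_NN π hπ c hc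
  obtain ⟨S, hSf, hS⟩ := TensorProduct.exists_finite_submodule_left_of_setFinite
    {TensorProduct.assoc k (NN A π) A A κ0} (Set.finite_singleton _)
  obtain ⟨z0, hz0⟩ := hS rfl
  have h0 := exists_W (A := A) π S (Module.Finite.iff_fg.1 hSf)
  obtain ⟨W, h3, h4, h5, h6⟩ := h0
  let z1 : (S ⊗[k] A) ⊗[k] A := (TensorProduct.assoc k S A A).symm z0
  have hz1 : (S.subtype.rTensor A).rTensor A z1 = κ0 := by
    apply (TensorProduct.assoc k (NN A π) A A).injective
    rw [← hz0, LinearMap.rTensor_tensor]
    rfl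
  let κ : (W ⊗[k] A) ⊗[k] A := ((Submodule.inclusion h4).rTensor A).rTensor A z1
  have hκ : (W.subtype.rTensor A).rTensor A κ = κ0 := by
    rw [← hz1]
    simp only [κ]
    rw [← LinearMap.rTensor_comp_apply, ← LinearMap.rTensor_comp]
    rfl
  refine ⟨W, inferInstance, inferInstance, coW π W h3, h6, Module.Finite.iff_fg.2 h5,
    pp A π ∘ₗ W.subtype, coW_hom π W h3, κ, ?_, ?_⟩
  · apply cm_injective (A := A) W.subtype W.injective_subtype 3
    have h := LinearMap.congr_fun (d_nat (A := A) (coW π W h3) (coNN A π) W.subtype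
      (coW_sub π W h3) 2) κ
    rw [map_zero]
    refine Eq.trans h.symm ?_
    change dC (coNN A π) 2 ((W.subtype.rTensor A).rTensor A κ) = 0
    rw [hκ]
    exact h1
  · rw [LinearMap.rTensor_comp, LinearMap.rTensor_comp_apply, hκ]
    exact h2

end Abs

section Main

open Groth.Agent.ResProp.EF.Grp

variable {k : Type u} [CommRing k] [IsDomain k] [IsPrincipalIdealRing k]

/-- 1.1 (Serre). -/
theorem serreCover (E : Gp k) : SerreCover E := by
  intro M hM
  obtain ⟨W, _, _, h, h1, h2, f, hf, hs⟩ := cover_abs (A := E.O) (V := M.V)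
    (Finsupp.linearCombination k (id : M.V → M.V)) (fun v => ⟨Finsupp.single v 1, by simp⟩)
  exact ⟨⟨W⟩, h1, h2, f, hf, hs⟩

/-- 1.2, exactly (no coboundary). -/
theorem exists_lift (E : Gp k) (M : GMod E) (c : M.C 2) (hc : M.d 2 c = 0) :
    ∃ (V : GMod E) (_ : Module.Free k V.V) (_ : Module.Finite k V.V)
      (f : V.V →ₗ[k] M.V) (_ : Hoch.IsComodHom E.O f) (κ : V.C 2), V.d 2 κ = 0 ∧
        cmap V M f 2 κ = c := by
  obtain ⟨W, _, _, h, h1, h2, f, hf, κ, hκ, hc⟩ := lift_abs (A := E.O) (V := M.V)
    (Finsupp.linearCombination k (id : M.V → M.V)) (fun v => ⟨Finsupp.single v 1, by simp⟩) c hc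
  exact ⟨⟨W⟩, h1, h2, f, hf, κ, hκ, hc⟩

/-- 1.2. -/
theorem liftClass2 (E : Gp k) : LiftClass2 E := by
  intro M c hc
  obtain ⟨V, h1, h2, f, hf, κ, h3, h4⟩ := exists_lift E M c hc
  refine ⟨V, h1, h2, f, hf, κ, h3, 0, ?_⟩
  rw [map_zero, h4, sub_self]

end Main

end Groth.Agent.ResProp.EF.K413
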